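import Cfsg.Agent.H61.GI.Defs
import Cfsg.Agent.H57.SzTwo
import Cfsg.Agent.H57.SzForm
import Cfsg.Agent.H12.Orth

/-!
An imaginary character of degree `r` with `2 r² = q` of a Sylow 2-subgroup of `Sz(q)`, for the
strongly embedded configuration of `H61.GI` (helper18).
-/

set_option autoImplicit false
set_option linter.unusedSectionVars false

open Cfsg
open scoped ComplexConjugate

namespace H18.GI

section Trace

variable {F : Type*} [Field F] [Fintype F] {m : ℕ}

/-- The absolute trace, as an element of `F`. -/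
def tr (m : ℕ) (x : F) : F := ∑ i ∈ Finset.range (2 * m + 1), x ^ 2 ^ i

theorem tr_add (hF : Fintype.card F = 2 ^ (2 * m + 1)) (x y : F) :
    tr m (x + y) = tr m x + tr m y := by
  haveI := H57.charTwo hF
  simp only [tr, add_pow_char_pow, Finset.sum_add_distrib]

theorem tr_sq (hF : Fintype.card F = 2 ^ (2 * m + 1)) (x : F) :
    tr m (x ^ 2) = tr m x := by
  have h0 : ∀ i : ℕ, (x ^ 2) ^ 2 ^ i = x ^ 2 ^ (i + 1) := fun i => by
    rw [← pow_mul]; congr 1; rw [pow_succ]; ring
  simp only [tr, h0]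
  have h1 := Finset.sum_range_succ (fun i => x ^ 2 ^ i) (2 * m + 1)
  have h2 := Finset.sum_range_succ' (fun i => x ^ 2 ^ i) (2 * m + 1)
  simp only [pow_zero, pow_one] at h2
  have h3 : x ^ 2 ^ (2 * m + 1) = x := by rw [← hF]; exact FiniteField.pow_card x
  rw [h3] at h1
  exact add_right_cancel (h2.symm.trans h1)

theorem tr_pow (hF : Fintype.card F = 2 ^ (2 * m + 1)) (x : F) (k : ℕ) :
    tr m (x ^ 2 ^ k) = tr m x := by
  induction k with
  | zero => simp
  | succ k ih => rw [pow_succ, pow_mul, tr_sq hF, ih]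

theorem tr_cases (hF : Fintype.card F = 2 ^ (2 * m + 1)) (x : F) :
    tr m x = 0 ∨ tr m x = 1 := by
  haveI := H57.charTwo hF
  have h : tr m x ^ 2 = tr m x := by
    conv_rhs => rw [← tr_sq hF x]
    simp only [tr]
    rw [sum_pow_char 2]
    exact Finset.sum_congr rfl fun i _ => by rw [← pow_mul, ← pow_mul, mul_comm]
  rw [sq] at h
  rcases eq_or_ne (tr m x) 0 with h0 | h0
  · exact Or.inl h0
  · exact Or.inr (mul_left_cancel₀ h0 (by rw [h, mul_one]))

theorem tr_one (hF : Fintype.card F = 2 ^ (2 * m + 1)) : tr m (1 : F) = 1 := by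
  haveI := H57.charTwo hF
  simp [tr, CharTwo.two_eq_zero]

/-- The sign of the trace. -/
noncomputable def sgn (m : ℕ) (x : F) : ℂ :=
  open Classical in if tr m x = 0 then 1 else -1

theorem sgn_add (hF : Fintype.card F = 2 ^ (2 * m + 1)) (x y : F) :
    sgn m (x + y) = sgn m x * sgn m y := by
  haveI := H57.charTwo hF
  rcases tr_cases hF x with h | h <;> rcases tr_cases hF y with h' | h' <;>
    simp [sgn, tr_add hF, h, h', CharTwo.add_self_eq_zero]

theorem sgn_one (hF : Fintype.card F = 2 ^ (2 * m + 1)) : sgn m (1 : F) = -1 := by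
  simp [sgn, tr_one hF]

theorem sum_sgn (hF : Fintype.card F = 2 ^ (2 * m + 1)) : ∑ x : F, sgn m x = 0 := by
  have h := Fintype.sum_equiv (Equiv.addRight (1 : F)) (fun x => sgn m (x + 1)) (fun x => sgn m x)
    fun x => rfl
  simp only [sgn_add hF, sgn_one hF, mul_neg, mul_one, Finset.sum_neg_distrib] at h
  linear_combination (-(1 : ℂ) / 2) * h

/-- The radical of the form `sgn (θ a c + θ c a)` is `{0, 1}`. -/
theorem radical (hF : Fintype.card F = 2 ^ (2 * m + 1)) (c : F) :
    (∀ a : F, sgn m (H57.th m a * c + H57.th m c * a) = 1) ↔ c = 0 ∨ c = 1 := by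
  haveI := H57.charTwo hF
  have key : ∀ a : F, tr m (H57.th m a * c) = tr m (a * c ^ 2 ^ m) := fun a => by
    rw [← tr_pow hF (a * c ^ 2 ^ m) (m + 1), mul_pow, ← pow_mul c, ← pow_add,
      show m + (m + 1) = 2 * m + 1 by ring, ← hF, FiniteField.pow_card, H57.th_def]
  constructor
  · intro h
    have h0 : H57.th m c + c ^ 2 ^ m = 0 := by
      by_contra hne
      have h1 := h (H57.th m c + c ^ 2 ^ m)⁻¹
      have h2 : tr m (H57.th m (H57.th m c + c ^ 2 ^ m)⁻¹ * c +
          H57.th m c * (H57.th m c + c ^ 2 ^ m)⁻¹) = 1 := by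
        rw [tr_add hF, key, ← tr_add hF, mul_comm (H57.th m c), ← mul_add, add_comm (c ^ 2 ^ m),
          inv_mul_cancel₀ hne, tr_one hF]
      rw [sgn, if_neg (by rw [h2]; exact one_ne_zero)] at h1
      norm_num at h1
    have h3 : H57.th m c = c ^ 2 ^ m := CharTwo.add_eq_zero.1 h0
    have h4 : c ^ 2 = c := by
      rw [← H57.th_th hF c, h3, H57.th_def, ← pow_mul, ← pow_add,
        show m + (m + 1) = 2 * m + 1 by ring, ← hF, FiniteField.pow_card]
    rcases eq_or_ne c 0 with hc | hc
    · exact Or.inl hc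
    · exact Or.inr (mul_left_cancel₀ hc (by rw [← sq, h4, mul_one]))
  · rintro (rfl | rfl) a
    · simp [sgn, tr, H57.th_zero]
    · rw [mul_one, H57.th_one, one_mul, sgn_add hF,
        show sgn m (H57.th m a) = sgn m a by rw [sgn, sgn, H57.th_def, tr_pow hF]]
      rw [sgn]; split_ifs <;> norm_num

end Trace

/-- A group with the multiplication rule of the Sylow 2-subgroup of a Suzuki group. -/
theorem szChar_of_param {P : Type*} [Group P] {F : Type*} [Field F] [Fintype F] {m : ℕ}
    (hF : Fintype.card F = 2 ^ (2 * m + 1)) (el : F × F ≃ P)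
    (hmul : ∀ a b c d : F, el (a, b) * el (c, d) = el (a + c, b + d + H57.th m a * c)) :
    H61.GI.SzChar P := by
  classical
  haveI := H57.charTwo hF
  haveI hfin : Finite P := Finite.of_equiv _ el
  have hone : el (0, 0) = 1 := by
    have h := hmul 0 0 0 0
    simpa [H57.th_zero] using h
  have hsq : ∀ a b : F, el (a, b) * el (a, b) = el (0, H57.th m a * a) := fun a b => by
    rw [hmul, CharTwo.add_self_eq_zero, CharTwo.add_self_eq_zero, zero_add]
  have hA : ∀ x : P, x * x = 1 ↔ ∃ b : F, el (0, b) = x := fun x => by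
    obtain ⟨⟨a, b⟩, rfl⟩ := el.surjective x
    rw [hsq, ← hone, el.injective.eq_iff]
    constructor
    · intro h
      have h1 := congrArg Prod.snd h
      simp only [mul_eq_zero, H57.th_eq_zero, or_self] at h1
      exact ⟨b, by rw [h1]⟩
    · rintro ⟨b', h⟩
      obtain ⟨rfl, rfl⟩ := Prod.mk.injEq .. ▸ el.injective h
      simp [H57.th_zero]
  have hcA : Nat.card {x : P // x * x = 1} = Nat.card F := by
    refine (Nat.card_congr (Equiv.ofBijective (fun b : F => (⟨el (0, b), (hA _).2 ⟨b, rfl⟩⟩ :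
      {x : P // x * x = 1})) ⟨fun b b' h => ?_, fun x => ?_⟩)).symm
    · exact congrArg Prod.snd (el.injective (congrArg Subtype.val h))
    · obtain ⟨b, hb⟩ := (hA _).1 x.2
      exact ⟨b, Subtype.ext hb⟩
  refine ⟨by rw [hcA, ← Nat.card_congr el, Nat.card_prod, sq], fun {_} => ?_⟩
  have hcomm : ∀ a b c d : F, el (a, b) * el (c, d) =
      el (0, H57.th m a * c + H57.th m c * a) * (el (c, d) * el (a, b)) := fun a b c d => by
    rw [hmul, hmul, hmul, H57.th_zero, zero_mul, add_zero, zero_add, add_comm c a]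
    congr 2
    linear_combination (-(H57.th m c * a)) * H57.two_eq_zero hF
  have hcen : ∀ z a b : F, el (0, z) * el (a, b) = el (a, b) * el (0, z) := fun z a b => by
    simp [hmul, H57.th_zero, add_comm b z]
  -- the class function carrying the sign on the centre
  let f : P → ℂ := fun x => if x * x = 1 then sgn m (el.symm x).2 else 0
  have hfc : IsClassFunction P f := fun x y => by
    obtain ⟨⟨a, b⟩, rfl⟩ := el.surjective x
    by_cases hx : el (a, b) * el (a, b) = 1
    · obtain ⟨z, hz⟩ := (hA _).1 hx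
      obtain ⟨rfl, rfl⟩ := Prod.mk.injEq .. ▸ el.injective hz.symm
      obtain ⟨⟨c, d⟩, rfl⟩ := el.surjective y
      rw [← hcen, mul_inv_cancel_right]
    · have hx' : ¬ (y * el (a, b) * y⁻¹ * (y * el (a, b) * y⁻¹) = 1) := fun h => hx (by
        have h' : y * (el (a, b) * el (a, b)) * y⁻¹ = 1 := by rw [← h]; group
        rwa [conj_eq_one_iff] at h')
      simp only [f, if_neg hx, if_neg hx']
  obtain ⟨χ, hχ⟩ : ∃ χ : IrrCharacter P, ∑ x : P, f x * conj ((χ : P → ℂ) x) ≠ 0 := by
    by_contra hno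
    push Not at hno
    have h0 : f = 0 := H12.classFunction_ext hfc (fun g h => rfl) fun χ => by
      rw [H12.classInner_zero_left, H12.classInner_def, hno χ, mul_zero]
    have := congrFun h0 1
    simp only [f, mul_one, if_true, Pi.zero_apply] at this
    rw [← hone, Equiv.symm_apply_apply] at this
    simp [sgn, tr] at this
  obtain ⟨n, ρ, hirr, hρ⟩ := χ.2
  haveI := hirr
  have hn : n ≠ 0 := fun h0 => hχ <| Finset.sum_eq_zero fun x _ => by
    subst h0
    have : (χ : P → ℂ) x = 0 := by
      rw [← hρ, Representation.character, Subsingleton.elim (ρ x) 0, map_zero]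
    rw [this, map_zero, mul_zero]
  have htr : ∀ (x : P) (s : ℂ), ρ x = s • (1 : Module.End ℂ (Fin n → ℂ)) →
      (χ : P → ℂ) x = s * n := fun x s h => by
    rw [← hρ, Representation.character, h, map_smul, LinearMap.trace_one, smul_eq_mul]
    simp
  have hinj : ∀ s s' : ℂ, s • (1 : Module.End ℂ (Fin n → ℂ)) = s' • 1 → s = s' := fun s s' h => by
    have h' := congrArg (LinearMap.trace ℂ (Fin n → ℂ)) h
    simp only [map_smul, LinearMap.trace_one, smul_eq_mul] at h'
    exact mul_right_cancel₀ (by simpa using hn) h'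
  -- the centre acts by scalars
  have hsc : ∀ z : F, ∃ s : ℂ, ρ (el (0, z)) = s • (1 : Module.End ℂ (Fin n → ℂ)) := fun z =>
    H12.exists_scalar_of_commute ρ _ fun x => by
      obtain ⟨⟨a, b⟩, rfl⟩ := el.surjective x
      rw [← map_mul, hcen, map_mul]
  choose s hs using hsc
  have hsm : ∀ z z' : F, s (z + z') = s z * s z' := fun z z' => hinj _ _ (by
    rw [← hs, show el (0, z + z') = el (0, z) * el (0, z') by
      rw [hmul, H57.th_zero, zero_mul, add_zero, add_zero], map_mul, hs, hs, smul_mul_smul_comm,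
      one_mul])
  have hss : ∀ z, s z = sgn m z := by
    by_contra hno
    push Not at hno
    obtain ⟨z₀, hz₀⟩ := hno
    have h00 : s 0 = 1 := hinj _ _ (by rw [← hs, hone, map_one, one_smul])
    have hpm : ∀ z, s z * s z = 1 := fun z => by rw [← hsm, CharTwo.add_self_eq_zero, h00]
    have hg : ∀ z, conj (s z) = s z := fun z => by
      rcases mul_self_eq_one_iff.1 (hpm z) with h | h <;> simp [h]
    apply hχ
    have hsum : ∑ x : P, f x * conj ((χ : P → ℂ) x) = (n : ℂ) * ∑ z : F, sgn m z * s z := by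
      rw [← el.sum_comp, Fintype.sum_prod_type, Finset.sum_eq_single 0, Finset.mul_sum]
      · refine Finset.sum_congr rfl fun z _ => ?_
        simp only [f, (hA _).2 ⟨z, rfl⟩, if_true, Equiv.symm_apply_apply, htr _ _ (hs z), map_mul,
          hg, map_natCast]
        ring
      · intro a _ ha
        refine Finset.sum_eq_zero fun b _ => ?_
        have hne : ¬ el (a, b) * el (a, b) = 1 := fun h => by
          obtain ⟨z, hz⟩ := (hA _).1 h
          exact ha (congrArg Prod.fst (el.injective hz)).symm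
        simp only [f, if_neg hne, zero_mul]
      · simp
    rw [hsum]
    have h := Fintype.sum_equiv (Equiv.addRight z₀) (fun z => sgn m (z + z₀) * s (z + z₀))
      (fun z => sgn m z * s z) fun z => rfl
    simp only [sgn_add hF, hsm] at h
    have hfac : sgn m z₀ * s z₀ = -1 := by
      have hw : sgn m z₀ = 1 ∨ sgn m z₀ = -1 := by simp only [sgn]; split_ifs <;> simp
      rcases mul_self_eq_one_iff.1 (hpm z₀) with h1 | h1 <;> rcases hw with h2 | h2 <;>
        first
          | exact absurd (h1.trans h2.symm) hz₀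
          | (rw [h1, h2]; norm_num)
    rw [show ∑ z : F, sgn m z * sgn m z₀ * (s z * s z₀) =
        (sgn m z₀ * s z₀) * ∑ z : F, sgn m z * s z by
      rw [Finset.mul_sum]; exact Finset.sum_congr rfl fun z _ => by ring, hfac] at h
    exact mul_eq_zero_of_right _ (by linear_combination (-(1 : ℂ) / 2) * h)
  have hz : ∀ z, ρ (el (0, z)) = sgn m z • (1 : Module.End ℂ (Fin n → ℂ)) := fun z =>
    hss z ▸ hs z
  -- values
  have hvan : ∀ c d : F, ¬ (c = 0 ∨ c = 1) → (χ : P → ℂ) (el (c, d)) = 0 := fun c d hc => by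
    obtain ⟨a, ha⟩ := not_forall.1 (mt (radical hF c).1 hc)
    have h1 := congrArg ρ (hcomm a 0 c d)
    rw [map_mul, map_mul, map_mul, hz, smul_mul_assoc, one_mul] at h1
    have h2 : (χ : P → ℂ) (el (c, d)) = sgn m (H57.th m a * c + H57.th m c * a) *
        (χ : P → ℂ) (el (c, d)) := by
      have hi : ρ (el (a, 0)) * ρ ((el (a, 0))⁻¹) = 1 := by rw [← map_mul, mul_inv_cancel, map_one]
      have h3 : LinearMap.trace ℂ _ (ρ (el (a, 0)) * ρ (el (c, d)) * ρ ((el (a, 0))⁻¹)) =
          sgn m (H57.th m a * c + H57.th m c * a) * LinearMap.trace ℂ _ (ρ (el (c, d))) := by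
        rw [h1, smul_mul_assoc, map_smul, mul_assoc, hi, mul_one, smul_eq_mul]
      rw [LinearMap.trace_mul_comm, ← mul_assoc, ← map_mul, inv_mul_cancel, map_one,
        one_mul] at h3
      rw [← hρ]
      exact h3
    have hw : sgn m (H57.th m a * c + H57.th m c * a) = -1 := by
      simp only [sgn] at ha ⊢
      split_ifs with h
      · exact absurd (if_pos h) ha
      · rfl
    rw [hw] at h2
    linear_combination (1 / 2 : ℂ) * h2
  have hrad : ∀ c d : F, c = 0 ∨ c = 1 → ∃ t : ℂ, (χ : P → ℂ) (el (c, d)) = t * n ∧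
      t * t = sgn m c := fun c d hc => by
    obtain ⟨t, ht⟩ := H12.exists_scalar_of_commute ρ (ρ (el (c, d))) fun x => by
      obtain ⟨⟨a, b⟩, rfl⟩ := el.surjective x
      have h1 := congrArg ρ (hcomm a b c d)
      rw [map_mul, map_mul, map_mul, hz, (radical hF c).2 hc a, one_smul, one_mul] at h1
      exact h1.symm
    refine ⟨t, htr _ _ ht, hinj _ _ ?_⟩
    calc (t * t) • (1 : Module.End ℂ (Fin n → ℂ)) = ρ (el (c, d)) * ρ (el (c, d)) := by
          rw [ht, smul_mul_smul_comm, one_mul]
      _ = sgn m c • 1 := by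
          rw [← map_mul, hsq, hz]
          rcases hc with rfl | rfl <;> simp
  have hdeg : (χ : P → ℂ) 1 = n := by
    rw [htr 1 1 (by rw [map_one, one_smul]), one_mul]
  have hI : ∀ d : F, conj ((χ : P → ℂ) (el (1, d))) = -(χ : P → ℂ) (el (1, d)) := fun d => by
    obtain ⟨t, ht, htt⟩ := hrad 1 d (Or.inr rfl)
    rw [sgn_one hF, ← Complex.I_mul_I] at htt
    rcases mul_self_eq_mul_self_iff.1 htt with rfl | rfl <;> simp [ht]
  have hnorm : ∀ c d : F, (χ : P → ℂ) (el (c, d)) * conj ((χ : P → ℂ) (el (c, d))) =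
      if c = 0 ∨ c = 1 then (n : ℂ) ^ 2 else 0 := fun c d => by
    split_ifs with hc
    · obtain ⟨t, ht, htt⟩ := hrad c d hc
      rcases hc with rfl | rfl
      · have h0 : sgn m (0 : F) = 1 := by simp [sgn, tr]
        rw [h0] at htt
        rcases mul_self_eq_one_iff.1 htt with rfl | rfl <;> simp [ht, sq]
      · rw [hI, ht]
        rw [sgn_one hF] at htt
        linear_combination (-(n : ℂ) ^ 2) * htt
    · rw [hvan c d hc, zero_mul]
  have hq : 2 * n ^ 2 = Nat.card {x : P // x * x = 1} := by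
    have h := H12.sum_mul_conj_eq_card_mul (χ : P → ℂ) (χ : P → ℂ)
    rw [H12.classInner_irr_self, mul_one, ← el.sum_comp, Fintype.sum_prod_type] at h
    simp only [hnorm, Finset.sum_const, Finset.card_univ, nsmul_eq_mul] at h
    rw [← Finset.mul_sum, ← Finset.sum_filter,
      show (Finset.univ.filter fun c : F => c = 0 ∨ c = 1) = {0, 1} by ext c; simp,
      Finset.sum_pair zero_ne_one, ← Nat.card_congr el, Nat.card_prod,
      ← Nat.card_eq_fintype_card, Nat.cast_mul] at h
    rw [hcA]
    have h' := mul_left_cancel₀ (by simpa using (Nat.card_pos (α := F)).ne') h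
    exact_mod_cast (show (2 * (n : ℂ) ^ 2) = (Nat.card F : ℂ) by linear_combination h')
  refine ⟨χ, n, hdeg, hq, fun x hx => ?_, ?_⟩
  · obtain ⟨⟨c, d⟩, rfl⟩ := el.surjective x
    rcases eq_or_ne c 0 with rfl | hc0
    · exact absurd ((hA _).2 ⟨d, rfl⟩) hx
    rcases eq_or_ne c 1 with rfl | hc1
    · exact hI d
    · rw [hvan c d (not_or.2 ⟨hc0, hc1⟩), map_zero, neg_zero]
  · rw [show {x : P | x * x = 1} = (fun b : F => el (0, b)) '' Set.univ by
      ext x; simp [hA x],
      finsum_mem_image (fun b _ b' _ h => congrArg Prod.snd (el.injective h)), finsum_mem_univ,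
      finsum_eq_sum_of_fintype]
    simp only [htr _ _ (hz _), ← Finset.sum_mul, sum_sgn hF, zero_mul]

end H18.GI

namespace H61.GI

/-- Sylow 2-subgroups of Suzuki groups have the character. -/
theorem szChar_of_iso {L : Type*} [Group L] [Finite L] (h : Cfsg.Lie.IsoSuzuki L)
    (S : Sylow 2 L) : SzChar (S : Subgroup L) := by
  classical
  haveI : Fact (Nat.Prime 2) := ⟨Nat.prime_two⟩
  obtain ⟨F, _, _, m, hm, hF, ⟨e₀⟩⟩ := h
  let e : L ≃* Cfsg.Sz F m := e₀.trans (H57.lieSzEquiv hm hF).symm
  let Q : Sylow 2 (Cfsg.Sz F m) := S.mapSurjective (f := e.toMonoidHom) e.surjective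
  obtain ⟨eQ⟩ := H57.sylow_two_equiv hm hF Q
  let eS : ↥(S : Subgroup L) ≃* ↥(H57.tSub (m := m) hF) :=
    ((S : Subgroup L).equivMapOfInjective e.toMonoidHom e.injective).trans eQ
  let el : F × F → ↥(H57.tSub (m := m) hF) := fun x =>
    ⟨H57.tEl hF x.1 x.2, H57.tEl_mem_tSub hF _ _⟩
  have hbij : Function.Bijective el := ⟨fun x y hxy => by
      obtain ⟨h1, h2⟩ := H57.tEl_inj hF (congrArg Subtype.val hxy)
      exact Prod.ext h1 h2, fun x => by
      obtain ⟨a, b, hab⟩ := x.2
      exact ⟨(a, b), Subtype.ext hab.symm⟩⟩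
  refine H18.GI.szChar_of_param hF ((Equiv.ofBijective el hbij).trans eS.symm.toEquiv)
    fun a b c d => ?_
  simp only [Equiv.trans_apply, Equiv.ofBijective_apply, MulEquiv.toEquiv_eq_coe,
    MulEquiv.coe_toEquiv, ← map_mul]
  congr 1
  exact Subtype.ext (H57.tEl_mul hF a b c d)

end H61.GI
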