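import Cfsg.Agent.H61.GI.Count
import Cfsg.Agent.H56.Zassenhaus
import Cfsg.Agent.H66.FeitPrimePow

/-!
The case `D ∩ W = 1` of the semiregularity module: the minimal situation is a Zassenhaus group and
`W = 1` (helper18, adapted from helper64 and helper61).
-/

set_option autoImplicit false
set_option linter.style.haveILetI false
set_option linter.unusedSectionVars false

namespace H61.GI

open Subgroup

universe u

variable {G : Type u} [Group G] [Finite G] {H W T : Subgroup G} {z : G}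

/-- Subgroups of the same order in a finite cyclic group are equal. -/
theorem zero_cyclic_eq {C : Type*} [Group C] [Finite C] [IsCyclic C] (A B : Subgroup C)
    (h : Nat.card A = Nat.card B) : A = B := by
  classical
  haveI := Fintype.ofFinite C
  set S : Finset C := Finset.univ.filter fun x => x ^ Nat.card A = 1 with hS
  have hle : S.card ≤ Nat.card A := IsCyclic.card_pow_eq_one_le Nat.card_pos
  have key : ∀ E : Subgroup C, Nat.card E = Nat.card A → (E : Set C).toFinset = S := by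
    intro E hE
    apply Finset.eq_of_subset_of_card_le
    · intro x hx
      rw [Set.mem_toFinset] at hx
      simp only [hS, Finset.mem_filter, Finset.mem_univ, true_and]
      rw [← hE]
      exact orderOf_dvd_iff_pow_eq_one.1 (E.orderOf_dvd_natCard hx)
    · rw [Set.toFinset_card, ← Nat.card_eq_fintype_card]
      exact hle.trans hE.ge
  exact SetLike.coe_injective (Set.toFinset_inj.1 ((key A rfl).trans (key B h.symm).symm))

namespace Base

variable (B : Base G H W T z)
include B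

theorem card_D (hK : Dz H z ⊓ W = ⊥) : Nat.card (Dz H z) = Nat.card T - 1 := by
  rw [← B.relIndex_K, hK, Subgroup.relIndex_bot_left]

theorem isCyclic_D (hK : Dz H z ⊓ W = ⊥) : IsCyclic (Dz H z) := by
  haveI := B.isCyclic_actT
  refine isCyclic_of_injective B.actT.rangeRestrict fun d e h => ?_
  have h' : B.actT d = B.actT e := congrArg Subtype.val h
  have h1 : (d : G)⁻¹ * e ∈ Dz H z ⊓ W :=
    ⟨mul_mem ((Dz H z).inv_mem d.2) e.2, B.actT_eq_iff.1 h'⟩
  rw [hK, Subgroup.mem_bot, inv_mul_eq_one] at h1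
  exact Subtype.ext h1

/-- In a cyclic `D` a subgroup is determined by its order. -/
theorem eq_of_card_eq (hK : Dz H z ⊓ W = ⊥) {P Q : Subgroup G} (hP : P ≤ Dz H z) (hQ : Q ≤ Dz H z)
    (h : Nat.card Q = Nat.card P) : Q = P := by
  haveI := B.isCyclic_D hK
  have h1 : Q.subgroupOf (Dz H z) = P.subgroupOf (Dz H z) := by
    refine zero_cyclic_eq _ _ ?_
    rw [Nat.card_congr (subgroupOfEquivOfLe hP).toEquiv,
      Nat.card_congr (subgroupOfEquivOfLe hQ).toEquiv, h]
  rw [← Subgroup.map_subgroupOf_eq_of_le hQ, h1, Subgroup.map_subgroupOf_eq_of_le hP]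

/-- Witt for a subgroup of `D` determined by its order. -/
theorem cyc_witt {P : Subgroup G} (hPD : P ≤ Dz H z)
    (hP : ∀ Q : Subgroup G, Q ≤ Dz H z → Nat.card Q = Nat.card P → Q = P)
    {c c' : G ⧸ H} (hcc : c ≠ c') (hc : ∀ y ∈ P, y • c = c) (hc' : ∀ y ∈ P, y • c' = c') :
    ∃ g ∈ Subgroup.normalizer (P : Set G), g • pa H = c ∧ g • pb H z = c' := by
  obtain ⟨g, g1, g2⟩ := B.two_trans B.pb_ne.symm hcc
  refine ⟨g, ?_, g1, g2⟩
  have hQle : P.map (MulAut.conj g⁻¹).toMonoidHom ≤ Dz H z := by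
    rintro _ ⟨y, hy, rfl⟩
    refine ⟨?_, ?_⟩
    · show (g⁻¹ * y * g⁻¹⁻¹) • pa H = pa H
      rw [inv_inv, mul_smul, mul_smul, g1, hc y hy, ← g1, inv_smul_smul]
    · show (g⁻¹ * y * g⁻¹⁻¹) • pb H z = pb H z
      rw [inv_inv, mul_smul, mul_smul, g2, hc' y hy, ← g2, inv_smul_smul]
  have h1 : g⁻¹ ∈ Subgroup.normalizer (P : Set G) := by
    rw [H82.mem_normalizer_iff_map]
    exact hP _ hQle (H82.card_map_conj P g⁻¹)
  exact inv_mem_iff.1 h1

/-- With a third fixed point, an involution of `H` normalises the subgroup. -/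
theorem cyc_invol_normalizer {P : Subgroup G} (hPD : P ≤ Dz H z)
    (hP : ∀ Q : Subgroup G, Q ≤ Dz H z → Nat.card Q = Nat.card P → Q = P) {c : G ⧸ H} (hca : c ≠ pa H) (hcb : c ≠ pb H z)
    (hc : ∀ y ∈ P, y • c = c) :
    ∃ t ∈ H, orderOf t = 2 ∧ t ∈ Subgroup.normalizer (P : Set G) := by
  classical
  haveI : Fact (Nat.Prime 2) := ⟨Nat.prime_two⟩
  set M := Subgroup.normalizer (P : Set G) with hM
  have hPa : ∀ y ∈ P, y • pa H = pa H := fun y hy => (hPD hy).1
  have hPb : ∀ y ∈ P, y • pb H z = pb H z := fun y hy => (hPD hy).2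
  have hpres : ∀ g ∈ M, ∀ x : G ⧸ H, (∀ y ∈ P, y • x = x) → ∀ y ∈ P, y • g • x = g • x := by
    intro g hg x hx y hy
    have h1 : g⁻¹ * y * g ∈ P := (Subgroup.mem_normalizer_iff''.1 hg y).1 hy
    conv_rhs => rw [← hx _ h1]
    rw [← mul_smul, ← mul_smul]
    congr 1
    group
  -- transitivity on the fixed points
  have htrans : ∀ x : G ⧸ H, (∀ y ∈ P, y • x = x) → ∃ g ∈ M, g • pa H = x := by
    intro x hx
    by_cases hxa : x = pa H
    · exact ⟨1, one_mem _, by rw [one_smul, hxa]⟩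
    · obtain ⟨g, hg, g1, -⟩ := B.cyc_witt hPD hP hxa hx hPa
      exact ⟨g, hg, g1⟩
  by_contra hno
  push Not at hno
  -- no involution of `M` has its fixed point fixed by `P`
  have hnfix : ∀ i ∈ M, orderOf i = 2 → ∀ x : G ⧸ H, (∀ y ∈ P, y • x = x) → i • x ≠ x := by
    intro i hi hi2 x hx hix
    obtain ⟨g, hg, g1⟩ := htrans x hx
    refine hno (g⁻¹ * i * g) ((smul_pa_iff H).1 ?_) (by simpa using H67.invol_conj hi2 g⁻¹)
      (mul_mem (mul_mem (inv_mem hg) hi) hg)
    rw [mul_smul, mul_smul, g1, hix, ← g1, inv_smul_smul]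
  -- no two involutions of `M` commute
  have hnc : ∀ i j : M, orderOf i = 2 → orderOf j = 2 → Commute i j → i = j := by
    intro i j hi hj hij
    by_contra hne
    have hi' : orderOf (i : G) = 2 := (Subgroup.orderOf_coe i).trans hi
    have hj' : orderOf (j : G) = 2 := (Subgroup.orderOf_coe j).trans hj
    have hne' : (i : G) ≠ j := fun e => hne (Subtype.ext e)
    have hcom : (i : G) * j = j * i := congrArg Subtype.val hij.eq
    have hii := H70.mul_self_of_two hi'
    have hjj := H70.mul_self_of_two hj'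
    let A : Subgroup G :=
      { carrier := {x | x = 1 ∨ x = (i : G) ∨ x = (j : G) ∨ x = (i : G) * j}
        one_mem' := Or.inl rfl
        mul_mem' := by
          have e1 : (j : G) * i = i * j := hcom.symm
          have e2 : (i : G) * ((i : G) * j) = j := by rw [← mul_assoc, hii, one_mul]
          have e3 : (j : G) * ((i : G) * j) = i := by
            rw [← mul_assoc, e1, mul_assoc, hjj, mul_one]
          have e4 : (i : G) * j * i = j := by rw [mul_assoc, e1, e2]
          have e5 : (i : G) * j * j = i := by rw [mul_assoc, hjj, mul_one]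
          have e6 : (i : G) * j * ((i : G) * j) = 1 := by rw [← mul_assoc, e4, hjj]
          rintro a b (rfl | rfl | rfl | rfl) (rfl | rfl | rfl | rfl) <;>
            simp only [Set.mem_ofPred_eq, one_mul, mul_one, hii, hjj, e1, e2, e3, e4, e5, e6,
              true_or, or_true]
        inv_mem' := by
          rintro a (rfl | rfl | rfl | rfl)
          · exact Or.inl inv_one
          · exact Or.inr (Or.inl (inv_eq_of_mul_eq_one_right hii))
          · exact Or.inr (Or.inr (Or.inl (inv_eq_of_mul_eq_one_right hjj)))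
          · refine Or.inr (Or.inr (Or.inr ?_))
            rw [mul_inv_rev, inv_eq_of_mul_eq_one_right hii, inv_eq_of_mul_eq_one_right hjj]
            exact hcom.symm }
    have hAinv : ∀ x ∈ A, x ≠ 1 → orderOf x = 2 := by
      rintro x (rfl | rfl | rfl | rfl) hx1
      · exact absurd rfl hx1
      · exact hi'
      · exact hj'
      · refine orderOf_eq_prime ?_ hx1
        rw [pow_two, ← mul_assoc, mul_assoc (i : G) j i, ← hcom, ← mul_assoc, hii, one_mul, hjj]
    have hAsq : ∀ x ∈ A, x ^ 2 = 1 := fun x hx => by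
      by_cases hx1 : x = 1
      · rw [hx1, one_pow]
      · rw [← hAinv x hx hx1, pow_orderOf_eq_one]
    haveI : IsMulCommutative A := ⟨⟨fun x y => Subtype.ext (show (x : G) * y = y * x by
      have h := hAsq _ (mul_mem x.2 y.2)
      rw [pow_two] at h
      calc (x : G) * y = ((x : G) * y)⁻¹ := (inv_eq_of_mul_eq_one_right h).symm
        _ = y * x := by
          rw [mul_inv_rev, inv_eq_of_mul_eq_one_right (by rw [← pow_two]; exact hAsq _ y.2),
            inv_eq_of_mul_eq_one_right (by rw [← pow_two]; exact hAsq _ x.2)])⟩⟩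
    have hnA : ¬ IsCyclic A := by
      rintro ⟨g, hg⟩
      obtain ⟨k, hk⟩ := hg ⟨i, Or.inr (Or.inl rfl)⟩
      obtain ⟨l, hl⟩ := hg ⟨j, Or.inr (Or.inr (Or.inl rfl))⟩
      have hg2 : ∀ n : ℤ, (g : G) ^ n = 1 ∨ (g : G) ^ n = g := by
        intro n
        have hgsq : (g : G) ^ (2 : ℤ) = 1 := by exact_mod_cast hAsq _ g.2
        rcases Int.even_or_odd n with ⟨m, rfl⟩ | ⟨m, rfl⟩
        · exact Or.inl (by rw [← two_mul, zpow_mul, hgsq, one_zpow])
        · exact Or.inr (by rw [zpow_add, zpow_mul, hgsq, one_zpow, one_mul, zpow_one])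
      have hk' : (g : G) ^ k = i := congrArg Subtype.val hk
      have hl' : (g : G) ^ l = j := congrArg Subtype.val hl
      have hi1 : (i : G) ≠ 1 := fun e => by rw [e, orderOf_one] at hi'; omega
      have hj1 : (j : G) ≠ 1 := fun e => by rw [e, orderOf_one] at hj'; omega
      refine hne' ?_
      rw [← hk', ← hl', (hg2 k).resolve_left (fun e => hi1 (hk' ▸ e)),
        (hg2 l).resolve_left (fun e => hj1 (hl' ▸ e))]
    have hpt : ∀ x ∈ A, x ≠ 1 → x • H29SEB.fixPt H (i : G) = H29SEB.fixPt H (i : G) := by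
      intro x hx hx1
      have hcx : Commute x (i : G) := congrArg Subtype.val
        (mul_comm' (⟨x, hx⟩ : A) ⟨(i : G), Or.inr (Or.inl rfl)⟩)
      exact B.fix_of_commute hi' hcx
    refine hnfix i i.2 hi' (H29SEB.fixPt H (i : G)) ?_ (B.ctx.fix _ hi')
    intro y hy
    have hle : P ≤ MulAction.stabilizer G (H29SEB.fixPt H (i : G)) := by
      refine H79.le_of_centralizers_le (p := 2) (A := A) hAsq hnA ?_ ?_ ?_
      · rintro x (rfl | rfl | rfl | rfl)
        exacts [one_mem _, i.2, j.2, mul_mem i.2 j.2]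
      · exact (Nat.coprime_two_left.2 (B.D_odd.of_dvd_nat (card_dvd_of_le hPD))).symm
      · rintro x hx hx1 w ⟨-, hw⟩
        have hx2 := hAinv x hx hx1
        rw [← B.fix_unique hx2 (B.ctx.fix x hx2) (hpt x hx hx1)]
        exact B.fix_of_commute hx2 (Subgroup.mem_centralizer_singleton_iff.1 hw)
    exact hle hy
  -- a swapper
  obtain ⟨x, hx, hxa, hxb⟩ := B.cyc_witt hPD hP B.pb_ne hPb hPa
  have hxeven : Even (orderOf x) := by
    by_contra hodd
    obtain ⟨k, hk⟩ := Nat.not_even_iff_odd.1 hodd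
    have hx2 : (x * x) • pa H = pa H := by rw [mul_smul, hxa, hxb]
    have h1 : (x * x) ^ (k + 1) = x := by
      rw [← pow_two, ← pow_mul, show 2 * (k + 1) = orderOf x + 1 by omega, pow_succ,
        pow_orderOf_eq_one, one_mul]
    have h2 : (x * x) ^ (k + 1) ∈ MulAction.stabilizer G (pa H) := pow_mem hx2 _
    rw [h1] at h2
    exact B.pb_ne (hxa.symm.trans h2)
  obtain ⟨i, hiM, hi⟩ : ∃ i ∈ M, orderOf i = 2 := by
    obtain ⟨k, hk⟩ := hxeven
    have hk0 : k ≠ 0 := fun h0 => (orderOf_pos x).ne' (by omega)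
    refine ⟨x ^ k, pow_mem hx k, ?_⟩
    rw [orderOf_pow' x hk0, hk, ← two_mul, Nat.gcd_mul_left_left,
      Nat.mul_div_cancel _ (Nat.pos_of_ne_zero hk0)]
  have hiM2 : orderOf (⟨i, hiM⟩ : M) = 2 := by rw [Subgroup.orderOf_mk]; exact hi
  have hiso : Cfsg.IsIsolatedInvolution (⟨i, hiM⟩ : M) :=
    ⟨hiM2, fun g hg => (hnc _ _ hiM2 (H67.invol_conj hiM2 g) hg).symm⟩
  set O := Cfsg.pPrimeCore 2 M with hO
  haveI : O.Normal := H1.pPrimeCore_normal' 2 M
  have hOodd : Odd (Nat.card O) := Nat.coprime_two_right.mp (H1.card_pPrimeCore_coprime 2 M)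
  -- the odd core fixes every fixed point of `P`
  have hOa : ∀ o : M, o ∈ O → (o : G) • pa H = pa H := by
    intro o ho
    by_contra hmove
    set x₀ := i • pa H with hx₀
    -- `o` moves `pa`; compare with the orbit of `i`
    obtain ⟨g, hg, g1, g2⟩ := B.cyc_witt hPD hP (c := pa H) (c' := (o : G) • pa H)
      (fun e => hmove e.symm) hPa (hpres o o.2 _ hPa)
    obtain ⟨g', hg', g'1, g'2⟩ := B.cyc_witt hPD hP (c := pa H) (c' := x₀)
      (fun e => hnfix i hiM hi _ hPa e.symm) hPa (hpres i hiM _ hPa)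
    have hgg : (g' * g⁻¹) • pa H = pa H := by
      rw [mul_smul, inv_smul_eq_iff.2 g1.symm, g'1]
    have hgg2 : (g' * g⁻¹) • (o : G) • pa H = x₀ := by
      rw [mul_smul, inv_smul_eq_iff.2 g2.symm, g'2]
    set o' : M := ⟨g' * g⁻¹, mul_mem hg' (inv_mem hg)⟩ * o * ⟨g' * g⁻¹, mul_mem hg' (inv_mem hg)⟩⁻¹
      with ho'
    have ho'O : o' ∈ O := Subgroup.Normal.conj_mem inferInstance o ho _
    have ho'a : (o' : G) • pa H = x₀ := by
      rw [ho', Subgroup.coe_mul, Subgroup.coe_mul, Subgroup.coe_inv, mul_smul, mul_smul,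
        inv_smul_eq_iff.2 hgg.symm, hgg2]
    set q : M := o'⁻¹ * ⟨i, hiM⟩ with hq
    have hqH : (q : G) ∈ H := by
      rw [← smul_pa_iff, hq, Subgroup.coe_mul, Subgroup.coe_inv, mul_smul, inv_smul_eq_iff, ho'a]
    have hqodd : Odd (orderOf (q : G)) := by
      by_contra he
      obtain ⟨k, hk⟩ := Nat.not_odd_iff_even.1 he
      have hk0 : k ≠ 0 := fun h0 => (orderOf_pos (q : G)).ne' (by omega)
      refine hno ((q : G) ^ k) (pow_mem hqH k) ?_ (pow_mem q.2 k)
      rw [orderOf_pow' _ hk0, hk, ← two_mul, Nat.gcd_mul_left_left,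
        Nat.mul_div_cancel _ (Nat.pos_of_ne_zero hk0)]
    have h1 : orderOf (QuotientGroup.mk' O ⟨i, hiM⟩) ∣ orderOf q := by
      have h2 : QuotientGroup.mk' O q = QuotientGroup.mk' O ⟨i, hiM⟩ := by
        rw [hq, map_mul, map_inv, show QuotientGroup.mk' O o' = 1 from
          (QuotientGroup.eq_one_iff o').2 ho'O, inv_one, one_mul]
      rw [← h2]; exact orderOf_map_dvd _ _
    have h3 : orderOf (QuotientGroup.mk' O ⟨i, hiM⟩) ∣ 2 := hiM2 ▸ orderOf_map_dvd _ _
    have h4 : (⟨i, hiM⟩ : M) ∈ O := (QuotientGroup.eq_one_iff _).1 (orderOf_eq_one_iff.1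
      (Nat.eq_one_of_dvd_coprimes (Nat.coprime_two_left.2
        ((Subgroup.orderOf_coe q) ▸ hqodd)) h3 h1))
    have := hOodd.of_dvd_nat (Subgroup.orderOf_dvd_natCard _ h4)
    rw [hiM2] at this
    exact absurd this (by decide)
  have hOall : ∀ o : M, o ∈ O → ∀ x : G ⧸ H, (∀ y ∈ P, y • x = x) → (o : G) • x = x := by
    intro o ho x hx
    obtain ⟨g, hg, g1⟩ := htrans x hx
    have h := hOa (⟨g, hg⟩⁻¹ * o * ⟨g, hg⟩)
      (by simpa using Subgroup.Normal.conj_mem inferInstance o ho (⟨g, hg⟩ : M)⁻¹)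
    rw [Subgroup.coe_mul, Subgroup.coe_mul, Subgroup.coe_inv, mul_smul, mul_smul, inv_smul_eq_iff,
      g1] at h
    exact h
  -- a third point
  set x₀ := i • pa H with hx₀
  have hx₀a : x₀ ≠ pa H := hnfix i hiM hi _ hPa
  obtain ⟨y, hy, hya, hyx⟩ : ∃ y : G ⧸ H, (∀ w ∈ P, w • y = y) ∧ y ≠ pa H ∧ y ≠ x₀ := by
    by_cases h : c = x₀
    · exact ⟨pb H z, hPb, B.pb_ne, fun e => hcb (h.trans e.symm)⟩
    · exact ⟨c, hc, hca, h⟩
  obtain ⟨g₁, hg₁, g₁1, g₁2⟩ := B.cyc_witt hPD hP hx₀a.symm hPa (hpres i hiM _ hPa)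
  obtain ⟨g₂, hg₂, g₂1, g₂2⟩ := B.cyc_witt hPD hP hya.symm hPa hy
  set g : M := ⟨g₂ * g₁⁻¹, mul_mem hg₂ (inv_mem hg₁)⟩ with hgdef
  have hga : (g : G) • pa H = pa H := by
    show (g₂ * g₁⁻¹) • pa H = pa H
    rw [mul_smul, inv_smul_eq_iff.2 g₁1.symm, g₂1]
  have hgx : (g : G) • x₀ = y := by
    show (g₂ * g₁⁻¹) • x₀ = y
    rw [mul_smul, inv_smul_eq_iff.2 g₁2.symm, g₂2]
  have h := hOall _ (H85.zStar hiso g) (pa H) hPa
  rw [Subgroup.coe_mul, Subgroup.coe_mul, Subgroup.coe_mul, Subgroup.coe_inv, Subgroup.coe_inv,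
    mul_smul, mul_smul, mul_smul, inv_smul_eq_iff.2 hga.symm,
    show ((⟨i, hiM⟩ : M) : G) = i from rfl, inv_eq_of_mul_eq_one_right (H70.mul_self_of_two hi),
    ← hx₀, hgx] at h
  refine hyx ?_
  rw [hx₀]
  conv_rhs => rw [← h]
  rw [← mul_smul, H70.mul_self_of_two hi, one_smul]

theorem no_third (hK : Dz H z ⊓ W = ⊥) {g : G} (hg : g ∈ Dz H z) {c : G ⧸ H} (hca : c ≠ pa H)
    (hcb : c ≠ pb H z) (hc : g • c = c) : g = 1 := by
  have hPD : zpowers g ≤ Dz H z := zpowers_le.2 hg
  obtain ⟨t, htH, ht, htN⟩ := B.cyc_invol_normalizer hPD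
    (fun Q hQ h => B.eq_of_card_eq hK hPD hQ h) hca hcb
    (fun y hy => by
      obtain ⟨i, rfl⟩ := mem_zpowers_iff.1 hy
      exact zpow_mem (show g ∈ MulAction.stabilizer G c from hc) i)
  have hc' : g * t * g⁻¹ * t ∈ zpowers g := by
    have h1 : t * g⁻¹ * t ∈ zpowers g := by
      have := (Subgroup.mem_normalizer_iff.1 htN g⁻¹).1 (inv_mem (mem_zpowers g))
      rwa [H70.inv_eq_self_of_two ht] at this
    rw [show g * t * g⁻¹ * t = g * (t * g⁻¹ * t) by group]
    exact mul_mem (mem_zpowers g) h1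
  have hsup : g * t * g⁻¹ * t ∈ W ⊔ T :=
    mul_mem (B.S.mem_sup_of_invol (mul_mem (mul_mem (B.D_le hg) htH) (inv_mem (B.D_le hg)))
      (H67.invol_conj ht g)) (B.S.mem_sup_of_invol htH ht)
  have hW := B.S.mem_W_of_odd hsup (B.odd_of_mem_D (hPD hc'))
  obtain ⟨s, hs, hs1, w, hw, rfl⟩ := B.S.exists_conj_T htH ht
  have hgW := B.triv_mem_W hg (B.S.act g (B.D_le hg) s hs hs1
    ((B.S.triv_conj (B.D_le hg) hw s hs).1 hW))
  exact Subgroup.mem_bot.1 (hK ▸ (⟨hg, hgW⟩ : g ∈ Dz H z ⊓ W))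

theorem zassenhaus_of_K_bot (hK : Dz H z ⊓ W = ⊥) : Cfsg.IsZassenhausGroup G (G ⧸ H) := by
  classical
  have hfaith : FaithfulSMul G (G ⧸ H) := by
    refine ⟨fun {g g'} h => ?_⟩
    suffices he : g'⁻¹ * g ∈ H.normalCore by
      rw [B.core, Subgroup.mem_bot] at he
      exact (inv_mul_eq_one.1 he).symm
    intro y
    have h1 := h ((y⁻¹ : G) : G ⧸ H)
    rw [← smul_pa H y⁻¹, ← mul_smul, ← mul_smul] at h1
    rw [← smul_pa_iff, show y * (g'⁻¹ * g) * y⁻¹ = (g' * y⁻¹)⁻¹ * (g * y⁻¹) by group, mul_smul,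
      h1, inv_smul_smul]
  refine ⟨hfaith,
    MulAction.is_two_pretransitive_iff.2 fun {a b c d} hab hcd => B.two_trans hab hcd, ?_, ?_, ?_⟩
  · intro g a b c hab hbc hac ha hb hc
    obtain ⟨x, hx1, hx2⟩ := B.two_trans hab B.pb_ne.symm
    have hgD : x * g * x⁻¹ ∈ Dz H z := by
      refine ⟨?_, ?_⟩
      · show (x * g * x⁻¹) • pa H = pa H
        rw [← hx1, mul_smul, mul_smul, inv_smul_smul, ha]
      · show (x * g * x⁻¹) • pb H z = pb H z
        rw [← hx2, mul_smul, mul_smul, inv_smul_smul, hb]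
    refine conj_eq_one_iff.1 (B.no_third hK hgD (c := x • c) (fun e => hac ?_) (fun e => hbc ?_) ?_)
    · exact MulAction.injective x (hx1.trans e.symm)
    · exact MulAction.injective x (hx2.trans e.symm)
    · rw [mul_smul, mul_smul, inv_smul_smul, hc]
  · haveI : Nontrivial (Dz H z) := by
      rw [← Finite.one_lt_card_iff_nontrivial, B.card_D hK]
      have := B.S.four_le
      omega
    obtain ⟨d, hd⟩ := exists_ne (1 : Dz H z)
    exact ⟨d, fun e => hd (Subtype.ext e), pa H, pb H z, B.pb_ne.symm, d.2.1, d.2.2⟩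
  · intro N hN hNt
    by_contra hcon
    push Not at hcon
    have hNH : ∀ n ∈ N, n ∈ H → n = 1 := fun n hn hnH => by
      have h : (⟨n, hn⟩ : N) ∈ MulAction.stabilizer N (pa H) := (smul_pa_iff H).2 hnH
      exact congrArg Subtype.val (Subgroup.mem_bot.1 ((hcon (pa H)).le h))
    have hinv : ∀ t ∈ T, t ≠ 1 → ∀ y ∈ N, t * y * t = y⁻¹ := by
      intro t ht ht1 y hy
      have htt := B.S.T_sq t ht
      have htinv := B.S.inv_self ht
      let φ : N → N := fun n => n⁻¹ * ⟨t * n * t, by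
        have := hN.conj_mem n n.2 t
        rwa [htinv] at this⟩
      have hinj : Function.Injective φ := by
        intro m n h
        have h' : (m : G)⁻¹ * (t * m * t) = (n : G)⁻¹ * (t * n * t) := congrArg Subtype.val h
        have hc : Commute ((n : G) * (m : G)⁻¹) t := by
          show (n : G) * (m : G)⁻¹ * t = t * ((n : G) * (m : G)⁻¹)
          calc (n : G) * (m : G)⁻¹ * t
              = n * ((m : G)⁻¹ * (t * m * t)) * (t * (m : G)⁻¹ * t) * t := by
                rw [show (n : G) * ((m : G)⁻¹ * (t * m * t)) * (t * (m : G)⁻¹ * t) * t =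
                  n * (m : G)⁻¹ * t * m * (t * t) * (m : G)⁻¹ * (t * t) by group, htt]
                group
            _ = n * ((n : G)⁻¹ * (t * n * t)) * (t * (m : G)⁻¹ * t) * t := by rw [h']
            _ = t * ((n : G) * (m : G)⁻¹) := by
                rw [show (n : G) * ((n : G)⁻¹ * (t * n * t)) * (t * (m : G)⁻¹ * t) * t =
                  t * n * (t * t) * (m : G)⁻¹ * (t * t) by group, htt]
                group
        have h1 := hNH _ (mul_mem n.2 (inv_mem m.2))
          (H67.se_centralizer_mem B.S.se (B.S.orderOf_two ht ht1) (B.S.T_le ht) hc)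
        exact (Subtype.ext (mul_inv_eq_one.1 h1)).symm
      obtain ⟨n, hn⟩ := Finite.surjective_of_injective hinj ⟨y, hy⟩
      have hn' : (n : G)⁻¹ * (t * n * t) = y := congrArg Subtype.val hn
      rw [← hn', mul_inv_rev, mul_inv_rev, mul_inv_rev, htinv, inv_inv,
        show t * ((n : G)⁻¹ * (t * n * t)) * t = t * (n : G)⁻¹ * t * n * (t * t) by group, htt]
      group
    obtain ⟨s, hs, t, ht, hs1, ht1, hst⟩ := B.exists_two_t
    have hst1 : s * t ≠ 1 := fun e => hst (by
      rw [eq_inv_of_mul_eq_one_left e, B.S.inv_self ht])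
    have hNbot : ∀ y ∈ N, y = 1 := fun y hy => hNH y hy (by
      refine H67.se_centralizer_mem B.S.se (B.S.orderOf_two (mul_mem hs ht) hst1)
        (B.S.T_le (mul_mem hs ht)) ?_
      show y * (s * t) = s * t * y
      have e1 := hinv t ht ht1 y hy
      have e2 := hinv s hs hs1 _ (inv_mem hy)
      rw [inv_inv, ← e1] at e2
      calc y * (s * t) = s * (t * y * t) * s * (s * t) := by rw [e2]
        _ = s * t * y * (t * ((s * s) * t)) := by group
        _ = s * t * y := by rw [B.S.T_sq s hs, one_mul, B.S.T_sq t ht, mul_one])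
    obtain ⟨m, hm⟩ := hNt.exists_smul_eq (pa H) (pb H z)
    have hm' : (m : G) • pa H = pb H z := hm
    rw [hNbot m m.2, one_smul] at hm'
    exact B.pb_ne hm'.symm

/-- The conclusion when `D ∩ W = 1`: then `W = 1`. -/
theorem good_of_K_bot (hK : Dz H z ⊓ W = ⊥) : Good H W := by
  classical
  have hZ := B.zassenhaus_of_K_bot hK
  haveI : Fintype (G ⧸ H) := Fintype.ofFinite _
  haveI : Fintype G := Fintype.ofFinite _
  obtain ⟨t, ht, ht1⟩ := B.exists_t
  -- the orbit of `H` on the other points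
  have horb : H.index - 1 = Nat.card (Ker H T) := by
    have h := B.card_orbit Ker_le B.exists_Ker_smul
    rwa [B.Ker_inf_D, inf_comm W, hK, Subgroup.card_bot, one_mul] at h
  have hn1 : Even (H.index - 1) := by
    rw [horb]
    exact H65.even_card_of_mem (B.T_le_Ker ht) (B.S.orderOf_two ht ht1)
  have hodd : Odd (Nat.card (G ⧸ H)) := by
    rw [← Subgroup.index_eq_card]
    obtain ⟨k, hk⟩ := hn1
    exact ⟨k, by have := Nat.pos_of_ne_zero H.index_ne_zero_of_finite; omega⟩
  haveI := H56.zassenhaus_odd_simple hZ hodd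
  obtain ⟨p, k, hp, hk, hpk⟩ := (isPrimePow_nat_iff _).1 (H66.Feit.isPrimePow_degree hZ)
  rw [← Nat.card_eq_fintype_card, ← Subgroup.index_eq_card] at hpk
  obtain rfl : p = 2 := by
    rw [← hpk] at hn1
    exact ((Nat.prime_dvd_prime_iff_eq Nat.prime_two hp).1
      (Nat.prime_two.dvd_of_dvd_pow (even_iff_two_dvd.1 hn1))).symm
  have hdvd : Nat.card W ∣ 2 ^ k := by
    rw [hpk, horb]
    exact card_dvd_of_le B.W_le_Ker
  have hW : W = ⊥ := Subgroup.card_eq_one.1 (Nat.Coprime.eq_one_of_dvd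
    (Nat.Coprime.pow_right k (Nat.coprime_two_right.2 B.S.W_odd)) hdvd)
  show W ≤ H.normalCore
  rw [hW]
  exact bot_le

end Base

end H61.GI
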